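import Cfsg.Agent.H487.S5.PsuOwnB

/-!
# The strong row of `PSU₃(q)`, `p ∣ q`, `p ≥ 5` (helper487, for S2274)
-/

set_option autoImplicit false

universe u

namespace Cfsg.Agent.H487.S5U3

open Cfsg
open Cfsg.Agent.H533.T5 Cfsg.Agent.H957.T5M Cfsg.Agent.H106.MB Cfsg.Agent.H106.MT
open Cfsg.Agent.H132.S5
open Cfsg.Agent.UGT.U2.FOne.PSU (Rep exists_rep)

section PSU

variable {F : Type} [Field F] [Fintype F] {q p : ℕ} [hp : Fact p.Prime] [CharP F p]

/-- outer automorphisms of order `p` are conjugate up to powers -/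
theorem conj_outer (hF : Fintype.card F = q ^ 2) (hp5 : 5 ≤ p) {c d : MulAut (PSU 3 F q)} (hc : orderOf c = p)
    (hd : orderOf d = p) (hco : ¬ ∃ g, c = MulAut.conj g) (hdo : ¬ ∃ g, d = MulAut.conj g) :
    ∃ s ∈ (MulAut.conj : PSU 3 F q →* MulAut (PSU 3 F q)).range, ∃ j : ℕ, (s * d * s⁻¹) ^ j = c := by
  have hpp : p.Prime := hp.out
  have hq3 : 3 ≤ q := by
    have h1 := Cfsg.Agent.ClassicalGeometry.PSUAutSylow.prime_dvd_q p hF
    have h2 := Cfsg.Agent.LieClassical.HermBasic.two_le hF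
    have := Nat.le_of_dvd (by omega) h1
    omega
  have hcp : c ^ p = 1 := by rw [← hc, pow_orderOf_eq_one]
  have hdp : d ^ p = 1 := by rw [← hd, pow_orderOf_eq_one]
  obtain ⟨T, σ, hT⟩ := exists_rep hF le_rfl (by omega) c
  obtain ⟨X, τ, hX⟩ := exists_rep hF le_rfl (by omega) d
  have hord : ∀ {x : MulAut (PSU 3 F q)} {Y : (Fin 3 → F) → (Fin 3 → F)} {ρ : F ≃+* F}, Rep x Y ρ → x ^ p = 1 →
      (¬ ∃ g, x = MulAut.conj g) → orderOf ρ = p := by
    intro x Y ρ h hx hxo
    refine orderOf_eq_prime ?_ ?_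
    · have h1 := h.pow p
      rw [hx] at h1
      exact (Rep.of_one hF le_rfl h1).1
    · rintro rfl
      exact hxo (inner_of_lin hF hpp hp5 h hx)
  have hσ := hord hT hcp hco
  have hτ := hord hX hdp hdo
  obtain ⟨j, hj⟩ := Cfsg.Agent.H957.T5Pairs.exists_pow_inv hpp hσ hτ
  have hm : τ ^ (j * (p - 1)) = σ := by
    rw [pow_mul, hj, inv_pow, inv_eq_iff_mul_eq_one, ← pow_succ]
    have : p - 1 + 1 = p := by have := hpp.one_lt; omega
    rw [this, ← hσ, pow_orderOf_eq_one]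
  have hX' := hX.pow (j * (p - 1))
  rw [hm] at hX'
  have hdm : (d ^ (j * (p - 1))) ^ p = 1 := by rw [← pow_mul, mul_comm, pow_mul, hdp, one_pow]
  obtain ⟨s, hs, h⟩ := conj_field hF hpp hp5 hT hX' hσ hcp hdm
  exact ⟨s, hs, j * (p - 1), by rw [conj_pow, h]⟩

end PSU

variable {F : Type} [Field F] [Fintype F] {q p : ℕ}

/-- **The strong row of `PSU₃(q)` in own characteristic.** -/
theorem srow_psu3_own (hp : p.Prime) (hp5 : 5 ≤ p) [CharP F p] (hF : Fintype.card F = q ^ 2)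
    {S : Type u} [Group S] [Finite S] [IsSimpleGroup S] (hna : ¬ IsMulCommutative S) (hrs : RSHyp.{u} p)
    (e : S ≃* PSU 3 F q) : SRow p S := by
  have : Fact p.Prime := ⟨hp⟩
  have hs' : IsSimpleGroup (PSU 3 F q) := e.symm.isSimpleGroup
  have hna' : ¬ IsMulCommutative (PSU 3 F q) := by
    intro h
    apply hna
    refine ⟨⟨fun a b => e.injective ?_⟩⟩
    rw [map_mul, map_mul]
    exact h.is_comm.comm _ _
  intro c d hc hd
  obtain ⟨φ, hφ⟩ : ∃ φ : MulAut S ≃* MulAut (PSU 3 F q), φ = MulAut.congr e := ⟨_, rfl⟩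
  have hφc : ∀ (x : MulAut S) (y : S), φ x (e y) = e (x y) := fun x y => by rw [hφ]; simp [MulAut.congr]
  have hφi : ∀ g : S, φ (MulAut.conj g) = MulAut.conj (e g) := by
    intro g
    ext y
    obtain ⟨y, rfl⟩ := e.surjective y
    rw [hφc, MulAut.conj_apply, MulAut.conj_apply, map_mul, map_mul, map_inv]
  have hT : (MulAut.conj : PSU 3 F q →* MulAut (PSU 3 F q)).range ≤
      (MulAut.conj : S →* MulAut S).range.map φ.toMonoidHom := by
    rintro _ ⟨g, rfl⟩
    obtain ⟨g, rfl⟩ := e.surjective g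
    exact ⟨MulAut.conj g, ⟨g, rfl⟩, hφi g⟩
  have hc' : orderOf (φ c) = p := by rw [φ.orderOf_eq, hc]
  have hd' : orderOf (φ d) = p := by rw [φ.orderOf_eq, hd]
  have hcp : φ c ^ p = 1 := by rw [← hc', pow_orderOf_eq_one]
  have hdp : φ d ^ p = 1 := by rw [← hd', pow_orderOf_eq_one]
  have hne1 : ∀ {G : Type u} [Group G] {x : G}, orderOf x = p → x ≠ 1 := by
    rintro G _ x hx rfl
    rw [orderOf_one] at hx
    exact hp.one_lt.ne hx
  have hc1 : φ c ≠ 1 := by
    intro h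
    rw [h, orderOf_one] at hc'
    exact hp.one_lt.ne hc'
  have hd1 : φ d ≠ 1 := by
    intro h
    rw [h, orderOf_one] at hd'
    exact hp.one_lt.ne hd'
  refine SPair.mk' hp ?_ (BPair.of_hom φ.toMonoidHom hT (Cfsg.Agent.H106.MOwnU.bpair hF le_rfl hp5 hc' hd'))
  by_cases hdi : ∃ g, φ d = MulAut.conj g
  · obtain ⟨y, hy⟩ := hdi
    refine APair.of_hom φ.toMonoidHom hT ?_
    change APair _ (φ c) (φ d)
    rw [hy]
    refine apair_inner hF hp5 hna' hcp hc1 ?_
    rw [← orderOf_injective _ (conj_injective_of_simple (S := PSU 3 F q) hna') y, ← hy, hd']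
  · by_cases hci : ∃ g, φ c = MulAut.conj g
    · obtain ⟨x, hx⟩ := hci
      refine APair.of_hom φ.toMonoidHom hT ?_
      change APair _ (φ c) (φ d)
      rw [hx]
      refine (apair_inner hF hp5 hna' hdp hd1 ?_).symm
      rw [← orderOf_injective _ (conj_injective_of_simple (S := PSU 3 F q) hna') x, ← hx, hc']
    · obtain ⟨s, hs, j, hj⟩ := conj_outer hF hp5 hc' hd' hci hdi
      obtain ⟨g, rfl⟩ := hs
      obtain ⟨g, rfl⟩ := e.surjective g
      have hI := conj_range_normal (S := S)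
      refine APair.of_aligned (R := (MulAut.conj : S →* MulAut S).range) hrs le_rfl hc
        (fun r hr => hI.conj_mem _ hr c) (s := MulAut.conj g) ⟨g, rfl⟩ j (h := 1) (Commute.one_right _)
        (fun r _ => Commute.one_right _) ?_ (not_solvable_inn hna (hne1 hc))
      rw [mul_one]
      apply φ.injective
      rw [zpow_natCast, map_pow, map_mul, map_mul, map_inv, hφi]
      exact hj

end Cfsg.Agent.H487.S5U3
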