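import Cfsg.Agent.H487.S5.PsuFam
import Cfsg.Agent.H499.S5.PsuOwn

/-!
# S2274: the strong row of the family `PSU_n(q)`, given the cross characteristic part (helper487)
-/

set_option autoImplicit false

universe u

namespace Cfsg.Agent.H487.S5U3

open Cfsg Cfsg.Agent.H533.T5 Cfsg.Agent.H132.S5

theorem psuOwn {p : ℕ} (hp : p.Prime) (h5 : 5 ≤ p) (B : SBox.{u} p) : PsuOwn.{u} p := by
  intro S _ _ _ _ F _ _ _ n q hF hn e _
  exact Cfsg.Agent.H499.S5.srow_psu_own hF hp h5 B (by omega) e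

/-- **The family `PSU`, given the cross characteristic part.** -/
theorem srowFam_psu_of_cross {p : ℕ} (hp : p.Prime) (h5 : 5 ≤ p) (B : SBox.{u} p)
    (cross : PsuCross.{u} p) : SRowFam.{u} p (fun S _ => IsPSU S) :=
  srowFam_psu_of hp h5 B.rs (psuOwn hp h5 B) cross

end Cfsg.Agent.H487.S5U3
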