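import Cfsg.Agent.H487.S5.PsuOwn

/-!
# S2274: the strong row of the family `PSU_n(q)` from its pieces (helper487)
-/

set_option autoImplicit false

universe u

namespace Cfsg.Agent.H487.S5U3

open Cfsg Cfsg.Agent.H533.T5 Cfsg.Agent.H132.S5

/-- `PSU_n(q)`, `n ≥ 4`, `p ∣ q` -/
def PsuOwn (p : ℕ) : Prop :=
  ∀ (S : Type u) [Group S] [Finite S] [IsSimpleGroup S], ¬ IsMulCommutative S →
    ∀ (F : Type) [Field F] [Fintype F] [CharP F p] (n q : ℕ), Fintype.card F = q ^ 2 → 4 ≤ n →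
      (S ≃* PSU n F q) → SBelow.{u} p (Nat.card S) → SRow p S

/-- `PSU_n(q)`, `n ≥ 3`, `p` not dividing `q` -/
def PsuCross (p : ℕ) : Prop :=
  ∀ (S : Type u) [Group S] [Finite S] [IsSimpleGroup S], ¬ IsMulCommutative S →
    ∀ (F : Type) [Field F] [Fintype F] (n q : ℕ), Fintype.card F = q ^ 2 → 3 ≤ n → ¬ (n = 3 ∧ q = 2) → ¬ p ∣ q →
      (S ≃* PSU n F q) → SBelow.{u} p (Nat.card S) → SRow p S

/-- **The family `PSU`.** -/
theorem srowFam_psu_of {p : ℕ} (hp : p.Prime) (h5 : 5 ≤ p) (hrs : RSHyp.{u} p) (own : PsuOwn.{u} p)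
    (cross : PsuCross.{u} p) : SRowFam.{u} p (fun S _ => IsPSU S) := by
  rintro S _ _ _ hna ⟨F, _, _, n, q, hF, hn, h32, ⟨e⟩⟩ hlt
  by_cases h : p ∣ Fintype.card F
  · have := charP_of_dvd hp h
    rcases hn.eq_or_lt with rfl | hn
    · exact srow_psu3_own hp h5 hF hna hrs e
    · exact own S hna F n q hF hn e hlt
  · exact cross S hna F n q hF hn h32 (fun h1 => h (by rw [hF]; exact dvd_pow h1 (by norm_num))) e hlt

end Cfsg.Agent.H487.S5U3
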