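import Cfsg.Agent.H106.MOwnPSU
import Cfsg.Agent.H140.S5.PSL2Own
import Cfsg.Agent.H716.S5.Base

/-!
# `PSU_n(q)`, `n ≥ 3`, `p ∣ q`, `p ≥ 5`: non-solvable pairs with a transvection (helper487, for S2274)
-/

set_option autoImplicit false
set_option linter.unusedSectionVars false
set_option linter.unusedVariables false

namespace Cfsg.Agent.H487.S5U3

open Cfsg Matrix

section sl

open Cfsg.Agent.LieClassical.SLTwoUnipotent Cfsg.Agent.ClassicalGeometry.PSL2Solvable
open Cfsg.Agent.ClassicalGeometry.AutPSL.Root Cfsg.Agent.ClassicalGeometry.AutPSL.Auto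
  Cfsg.Agent.ClassicalGeometry.AutPSL.Main
open Cfsg.Agent.CpAut.Psl Cfsg.Agent.CpAut.Fix
open Cfsg.Agent.H947.Sy (ShU ShD pr_eq_iff exists_borel shape u_pow)
open Cfsg.Agent.H140.S5.PSL2Own

variable {F : Type*} [Field F] [Fintype F] {p : ℕ} [hpf : Fact p.Prime] [CharP F p]

local notation "S2" => Matrix.SpecialLinearGroup (Fin 2) F
local notation "P2" => Matrix.ProjectiveSpecialLinearGroup (Fin 2) F

/-- opposite transvections of `SL₂` generate a non-solvable group -/
theorem not_solvable_ul (h5 : 5 ≤ p) {a b : F} (ha : a ≠ 0) (hb : b ≠ 0) :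
    ¬ Group.IsSolvable ↥(Subgroup.closure ({u a, l b} : Set S2)) := by
  intro hsol0
  have hsol : Group.IsSolvable ↥(Subgroup.closure ({pr (u a), pr (l b)} : Set P2)) := by
    have e1 := Cfsg.Agent.H533.T5.closure_pair_map (pr : S2 →* P2) (u a) (l b)
    rw [← e1]
    exact Group.isSolvable_of_surjective (f := (pr : S2 →* P2).subgroupMap _) (MonoidHom.subgroupMap_surjective _ _)
  have h2 := two_ne (F := F) h5
  have hp : p.Prime := hpf.out
  have e1 : (pr wy * pr (u (-b)) * (pr wy)⁻¹ : P2) = pr (l b) := by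
    have := wy_u (F := F) (-b)
    rw [neg_neg] at this
    rw [← this]
    simp only [map_mul, map_inv]
  obtain ⟨x, hx⟩ : ∃ x : P2, x = pr (u a) := ⟨_, rfl⟩
  obtain ⟨y, hy⟩ : ∃ y : P2, y = pr (l b) := ⟨_, rfl⟩
  have hxp : x ^ p = 1 := by rw [hx, ← map_pow, u_pow, map_one]
  have hyp : y ^ p = 1 := by rw [hy, ← e1, conj_pow, ← map_pow, u_pow, map_one, mul_one, mul_inv_cancel]
  have hxy : x * y ≠ y * x := by
    intro h
    rw [hx, hy, ← map_mul, ← map_mul] at h
    rcases pr_eq_iff.1 h with h6 | h6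
    · have h7 := congrArg (fun X : S2 => (X : Matrix (Fin 2) (Fin 2) F) 0 0) h6
      simp only [coe_ul, coe_lu] at h7
      apply mul_ne_zero ha hb
      simpa using h7
    · have h7 := congrArg (fun X : S2 => (X : Matrix (Fin 2) (Fin 2) F) 0 1) h6
      simp only [coe_ul, coe_lu, Matrix.SpecialLinearGroup.coe_neg, Matrix.neg_apply] at h7
      have h8 : a = -a := by simpa using h7
      apply mul_ne_zero h2 ha
      linear_combination h8
  obtain ⟨H, hH⟩ : ∃ H, H = Subgroup.closure ({x, y} : Set P2) := ⟨_, rfl⟩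
  have hxH : x ∈ H := by rw [hH]; exact Subgroup.subset_closure (by simp)
  have hyH : y ∈ H := by rw [hH]; exact Subgroup.subset_closure (by simp)
  have hx1 : x ≠ 1 := fun h => hxy (by rw [h, one_mul, mul_one])
  have hy1 : y ≠ 1 := fun h => hxy (by rw [h, one_mul, mul_one])
  have hxo : orderOf x = p := orderOf_eq_prime hxp hx1
  have hyo : orderOf y = p := orderOf_eq_prime hyp hy1
  have hd : p ∣ Nat.card H := by
    rw [← hxo, ← Subgroup.orderOf_mk x hxH]
    exact orderOf_dvd_natCard _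
  rw [← hx, ← hy, ← hH] at hsol
  rcases shape (l := p) H hsol hp h5 hd with ⟨Q, hQ, hQH, hQp, -, hQa⟩ | ⟨A, -, hAc, hA2, -⟩
  · obtain ⟨g, hg, -⟩ := exists_borel hQ hQp
    obtain ⟨c, hc⟩ := hg x (hQa x hxH ⟨1, by rwa [pow_one]⟩)
    obtain ⟨d, hd⟩ := hg y (hQa y hyH ⟨1, by rwa [pow_one]⟩)
    apply hxy
    rw [hc, hd, ← map_mul, ← map_mul]
    congr 1
    have e2 : g * u c * g⁻¹ * (g * u d * g⁻¹) = g * (u c * u d) * g⁻¹ := by group
    have e3 : g * u d * g⁻¹ * (g * u c * g⁻¹) = g * (u d * u c) * g⁻¹ := by group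
    rw [e2, e3, ← u_add, ← u_add, add_comm]
  · have hsq : ∀ z : P2, orderOf z = p → z ^ 2 ≠ 1 := by
      intro z hz h
      have h6 := Nat.le_of_dvd (by norm_num) (orderOf_dvd_of_pow_eq_one h)
      omega
    exact hxy (hAc x (hA2 x hxH (hsq x hxo)) y (hA2 y hyH (hsq y hyo)))

end sl

open Cfsg.Agent.LieClassical.HermBasic Cfsg.Agent.LieClassical.HermSiegel Cfsg.Agent.LieClassical.HermGen
open Cfsg.Agent.ClassicalGeometry.PSUAutBasic
open Cfsg.Agent.UGT.U2.FOne.PSU (Rep exists_rep)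
open Cfsg.Agent.H132.S5
open Cfsg.Agent.LieClassical.SLTwoUnipotent (u l coe_u coe_l)

variable {F : Type*} [Field F] [Fintype F] {q n p : ℕ} [hp : Fact p.Prime] [CharP F p]

/-- the plane of `e`, `f` -/
def jm (e f : Fin n → F) (w : Fin 2 → F) : Fin n → F := w 0 • e + w 1 • f

theorem jm_u (e f : Fin n → F) (a : F) (w : Fin 2 → F) :
    jm e f (((u a : Matrix.SpecialLinearGroup (Fin 2) F) : Matrix (Fin 2) (Fin 2) F) *ᵥ w) =
      (w 0 + a * w 1) • e + w 1 • f := by
  have e0 : (((u a : Matrix.SpecialLinearGroup (Fin 2) F) : Matrix (Fin 2) (Fin 2) F) *ᵥ w) 0 = w 0 + a * w 1 := by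
    rw [coe_u]; simp [Matrix.mulVec, dotProduct, Fin.sum_univ_two]
  have e1 : (((u a : Matrix.SpecialLinearGroup (Fin 2) F) : Matrix (Fin 2) (Fin 2) F) *ᵥ w) 1 = w 1 := by
    rw [coe_u]; simp [Matrix.mulVec, dotProduct, Fin.sum_univ_two]
  rw [jm, e0, e1]

theorem jm_l (e f : Fin n → F) (a : F) (w : Fin 2 → F) :
    jm e f (((l a : Matrix.SpecialLinearGroup (Fin 2) F) : Matrix (Fin 2) (Fin 2) F) *ᵥ w) =
      w 0 • e + (a * w 0 + w 1) • f := by
  have e0 : (((l a : Matrix.SpecialLinearGroup (Fin 2) F) : Matrix (Fin 2) (Fin 2) F) *ᵥ w) 0 = w 0 := by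
    rw [coe_l]; simp [Matrix.mulVec, dotProduct, Fin.sum_univ_two]
  have e1 : (((l a : Matrix.SpecialLinearGroup (Fin 2) F) : Matrix (Fin 2) (Fin 2) F) *ᵥ w) 1 = a * w 0 + w 1 := by
    rw [coe_l]; simp [Matrix.mulVec, dotProduct, Fin.sum_univ_two]
  rw [jm, e0, e1]

theorem jm_injective (hF : Fintype.card F = q ^ 2) {e f : Fin n → F} (he : hermForm n F q e e = 0)
    (hf : hermForm n F q f f = 0) (hfe : hermForm n F q f e ≠ 0) : Function.Injective (jm e f) := by
  have hef : hermForm n F q e f ≠ 0 := fun h => hfe (herm_eq_zero_swap hF h)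
  intro w w' h
  have e1 := congrArg (fun v => hermForm n F q v f) h
  have e2 := congrArg (fun v => hermForm n F q v e) h
  simp only [jm, herm_add_left, herm_smul_left, he, hf, mul_zero, add_zero, zero_add] at e1 e2
  funext i
  fin_cases i
  · exact mul_right_cancel₀ hef e1
  · exact mul_right_cancel₀ hfe e2

/-- the correspondence between the stabiliser of the plane and `SL₂` -/
def Gam (q : ℕ) (e f : Fin n → F) : Subgroup (SU n F q × Matrix.SpecialLinearGroup (Fin 2) F) where
  carrier := {x | ∀ w, act x.1 (jm e f w) = jm e f ((x.2 : Matrix (Fin 2) (Fin 2) F) *ᵥ w)}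
  one_mem' := fun w => by
    change act 1 (jm e f w) = jm e f ((1 : Matrix (Fin 2) (Fin 2) F) *ᵥ w)
    rw [act_one, one_mulVec]
  mul_mem' := fun {x y} hx hy w => by
    change act (x.1 * y.1) (jm e f w) = jm e f (((x.2 * y.2 : Matrix.SpecialLinearGroup (Fin 2) F) :
      Matrix (Fin 2) (Fin 2) F) *ᵥ w)
    rw [act_mul, hy w, hx, Matrix.SpecialLinearGroup.coe_mul, mulVec_mulVec]
  inv_mem' := fun {x} hx w => by
    change act x.1⁻¹ (jm e f w) = jm e f (((x.2⁻¹ : Matrix.SpecialLinearGroup (Fin 2) F) :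
      Matrix (Fin 2) (Fin 2) F) *ᵥ w)
    have h3 := hx (((x.2⁻¹ : Matrix.SpecialLinearGroup (Fin 2) F) : Matrix (Fin 2) (Fin 2) F) *ᵥ w)
    rw [mulVec_mulVec, ← Matrix.SpecialLinearGroup.coe_mul, mul_inv_cancel, Matrix.SpecialLinearGroup.coe_one,
      one_mulVec] at h3
    rw [← h3, act_inv_act]

theorem mem_Gam {e f : Fin n → F} {g : SU n F q} {b : Matrix.SpecialLinearGroup (Fin 2) F} :
    (g, b) ∈ Gam q e f ↔ ∀ w, act g (jm e f w) = jm e f ((b : Matrix (Fin 2) (Fin 2) F) *ᵥ w) := Iff.rfl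

theorem Gam_one (hF : Fintype.card F = q ^ 2) {e f : Fin n → F} (he : hermForm n F q e e = 0)
    (hf : hermForm n F q f f = 0) (hfe : hermForm n F q f e ≠ 0) {b : Matrix.SpecialLinearGroup (Fin 2) F}
    (hb : ((1 : SU n F q), b) ∈ Gam q e f) : b = 1 := by
  apply Subtype.ext
  apply Matrix.ext_of_mulVec_single
  intro i
  have h3 := mem_Gam.1 hb (Pi.single i 1)
  rw [act_one] at h3
  rw [← jm_injective hF he hf hfe h3, Matrix.SpecialLinearGroup.coe_one, one_mulVec]

/-- two transvections with non-orthogonal centres generate a non-solvable group -/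
theorem not_solvable_transv (hF : Fintype.card F = q ^ 2) (hp5 : 5 ≤ p) {y1 y2 : SU n F q} {e f : Fin n → F}
    {μ ν : F} (hμ : μ ≠ 0) (hν : ν ≠ 0) (he : hermForm n F q e e = 0) (hf : hermForm n F q f f = 0)
    (hfe : hermForm n F q f e ≠ 0) (h1 : ∀ v, act y1 v = v + (μ * hermForm n F q v e) • e)
    (h2 : ∀ v, act y2 v = v + (ν * hermForm n F q v f) • f) :
    ¬ Group.IsSolvable ↥(Subgroup.closure ({y1, y2} : Set (SU n F q))) := by
  intro hsol
  have hef : hermForm n F q e f ≠ 0 := fun h => hfe (herm_eq_zero_swap hF h)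
  have hm1 : (y1, u (μ * hermForm n F q f e)) ∈ Gam q e f := by
    rw [mem_Gam]
    intro w
    rw [jm_u, h1, jm, herm_add_left, herm_smul_left, herm_smul_left, he]
    module
  have hm2 : (y2, l (ν * hermForm n F q e f)) ∈ Gam q e f := by
    rw [mem_Gam]
    intro w
    rw [jm_l, h2, jm, herm_add_left, herm_smul_left, herm_smul_left, hf]
    module
  have key : Group.IsSolvable ↥(Subgroup.closure ({u (μ * hermForm n F q f e), l (ν * hermForm n F q e f)} :
      Set (Matrix.SpecialLinearGroup (Fin 2) F))) :=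
    Cfsg.Agent.H716.S5.solvable_transfer (A := SU n F q) (B := Matrix.SpecialLinearGroup (Fin 2) F) (Gam q e f)
      (fun b b' hb hb' => by
        have e1 : b = 1 := Gam_one hF he hf hfe hb
        have e2 : b' = 1 := Gam_one hF he hf hfe hb'
        rw [e1, e2]) (x := (y1, u (μ * hermForm n F q f e)))
      (y := (y2, l (ν * hermForm n F q e f))) hm1 hm2 hsol
  exact not_solvable_ul (p := p) hp5 (mul_ne_zero hμ hfe) (mul_ne_zero hν hef) key

/-- solvability modulo the centre -/
theorem solvable_of_pr' {K : Subgroup (SU n F q)} (h : Group.IsSolvable ↥(K.map (pr n F q))) :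
    Group.IsSolvable ↥K := by
  let φ : ↥K →* ↥(K.map (pr n F q)) := (pr n F q).subgroupMap K
  have hker : Group.IsSolvable ↥φ.ker := by
    refine Group.isSolvable_of_comm fun a b => ?_
    have h1 : ((a : ↥K) : SU n F q) ∈ Subgroup.center (SU n F q) := by
      have h2 : φ (a : ↥K) = 1 := a.2
      exact pr_eq_one_iff.1 (congrArg Subtype.val h2)
    have h2 := Subgroup.mem_center_iff.1 h1 ((b : ↥K) : SU n F q)
    exact Subtype.ext (Subtype.ext h2.symm)
  exact Group.isSolvable_of_ker_le_range φ.ker.subtype φ (by rw [Subgroup.range_subtype])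

/-- **Part (a), a transvection against any automorphism.** -/
theorem apair_transv (hF : Fintype.card F = q ^ 2) (hn : 3 ≤ n) (hp5 : 5 ≤ p) [IsSimpleGroup (PSU n F q)]
    (hna : ¬ IsMulCommutative (PSU n F q)) {x : MulAut (PSU n F q)} (hxp : x ^ p = 1)
    (hx1 : x ≠ 1) {y : SU n F q} {u0 : Fin n → F} {μ : F} (hμ : μ ≠ 0) (hu0 : u0 ≠ 0)
    (hu : hermForm n F q u0 u0 = 0) (hy : ∀ v, act y v = v + (μ * hermForm n F q v u0) • u0) :
    APair (MulAut.conj : PSU n F q →* MulAut (PSU n F q)).range x (MulAut.conj (pr n F q y)) := by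
  have hpp : p.Prime := hp.out
  have hodd : Odd p := hpp.odd_of_ne_two (by omega)
  have hq3 : 3 ≤ q := by
    have h1 := Cfsg.Agent.ClassicalGeometry.PSUAutSylow.prime_dvd_q p hF
    have h2 := two_le hF
    have := Nat.le_of_dvd (by omega) h1
    omega
  obtain ⟨T, σ, hT⟩ := exists_rep hF hn (by omega) x
  obtain ⟨e, he, heT⟩ := Cfsg.Agent.H106.MOwnU.exists_iso_ne hF hn hT hodd hxp hx1
  have he0 : e ≠ 0 := by
    rintro rfl
    rw [herm_zero_right hF] at heT
    exact heT rfl
  obtain ⟨u', hu', huu'⟩ := Cfsg.Agent.LieClassical.HermSimple.exists_partner hF hu0 hu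
  obtain ⟨e', he', hee'⟩ := Cfsg.Agent.LieClassical.HermSimple.exists_partner hF he0 he
  obtain ⟨a, -, hau, -⟩ := exists_map_hyp hF hn le_rfl (mem_coordSub_top u0) (mem_coordSub_top u')
    (mem_coordSub_top e) (mem_coordSub_top e') hu hu' huu' he he' hee'
  obtain ⟨y1, hy1⟩ : ∃ y1, y1 = a * y * a⁻¹ := ⟨_, rfl⟩
  have h1 : ∀ v, act y1 v = v + (μ * hermForm n F q v e) • e := by
    intro v
    have e1 : hermForm n F q (act a⁻¹ v) u0 = hermForm n F q v e := by
      rw [← hau, ← herm_act a (act a⁻¹ v) u0, act_act_inv]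
    rw [hy1, act_mul, act_mul, hy, act_add, act_act_inv, act_smul, hau, e1]
  obtain ⟨y2, hy2, hy2T⟩ := hT.lift y1
  have h2 : ∀ v, act y2 v = v + (σ μ * hermForm n F q v (T e)) • T e := by
    intro v
    obtain ⟨v, rfl⟩ := hT.sur v
    rw [hy2T, h1, hT.add, hT.smul, map_mul, hT.herm]
  have hTe : hermForm n F q (T e) (T e) = 0 := by rw [hT.herm, he, map_zero]
  have hns := not_solvable_transv hF hp5 hμ (by rwa [Ne, map_eq_zero] : σ μ ≠ 0) he hTe heT h1 h2
  refine ⟨MulAut.conj (pr n F q a), ⟨_, rfl⟩, fun hsol => hns (solvable_of_pr' ?_)⟩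
  have h3 : MulAut.conj (pr n F q a) * MulAut.conj (pr n F q y) * (MulAut.conj (pr n F q a))⁻¹ =
      MulAut.conj (pr n F q y1) := by
    rw [hy1, map_mul (pr n F q), map_mul (pr n F q), map_inv (pr n F q), map_mul MulAut.conj,
      map_mul MulAut.conj, map_inv MulAut.conj]
  rw [h3] at hsol
  have h4 : x * MulAut.conj (pr n F q y1) * x⁻¹ = MulAut.conj (pr n F q y2) := by
    rw [← hy2]
    ext z
    simp [MulAut.mul_apply, MulAut.conj_apply]
  have h5 : Subgroup.closure ({MulAut.conj (pr n F q y1), MulAut.conj (pr n F q y2)} :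
      Set (MulAut (PSU n F q))) ≤ Subgroup.closure ({x, MulAut.conj (pr n F q y1)} : Set _) := by
    rw [Subgroup.closure_le]
    have hx : x ∈ Subgroup.closure ({x, MulAut.conj (pr n F q y1)} : Set (MulAut (PSU n F q))) :=
      Subgroup.subset_closure (by simp)
    have hc : MulAut.conj (pr n F q y1) ∈
        Subgroup.closure ({x, MulAut.conj (pr n F q y1)} : Set (MulAut (PSU n F q))) :=
      Subgroup.subset_closure (by simp)
    rintro z (rfl | hz)
    · exact hc
    · rw [Set.mem_singleton_iff] at hz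
      rw [hz, ← h4]
      exact mul_mem (mul_mem hx hc) (inv_mem hx)
  have hinj := Cfsg.Agent.H533.T5.conj_injective_of_simple (S := PSU n F q) hna
  have h6 := isSolvable_of_le h5 hsol
  have h7 : (Subgroup.closure ({pr n F q y1, pr n F q y2} : Set (PSU n F q))).map MulAut.conj =
      Subgroup.closure ({MulAut.conj (pr n F q y1), MulAut.conj (pr n F q y2)} :
      Set (MulAut (PSU n F q))) := Cfsg.Agent.H533.T5.closure_pair_map _ _ _
  rw [← h7] at h6
  rw [Cfsg.Agent.H533.T5.closure_pair_map]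
  exact Group.isSolvable_of_isSolvable_injective
    (f := ((Subgroup.closure ({pr n F q y1, pr n F q y2} : Set (PSU n F q))).equivMapOfInjective _
      hinj).toMonoidHom) (MulEquiv.injective _)

/-- proportional semi-isometries induce the same automorphism -/
theorem rep_eq' {α β : MulAut (PSU n F q)} {T X : (Fin n → F) → (Fin n → F)} {σ τ : F ≃+* F}
    (h : Rep α X σ) (h' : Rep β T τ) {η : F} (hη : η ≠ 0) (hX : ∀ v, X v = η • T v) : α = β := by
  ext x
  obtain ⟨g, rfl⟩ := pr_surjective x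
  obtain ⟨g1, h1, h2⟩ := h.lift g
  obtain ⟨g2, h3, h4⟩ := h'.lift g
  rw [h1, h3]
  congr 1
  apply ext_act
  intro v
  obtain ⟨u, rfl⟩ := h'.sur v
  have h5 := h2 u
  rw [hX, hX, act_smul] at h5
  rw [smul_right_injective _ hη h5, h4]

/-- an automorphism induced by a multiple of a transvection -/
theorem eq_conj_transv (hF : Fintype.card F = q ^ 2) {c : MulAut (PSU n F q)} {T : (Fin n → F) → (Fin n → F)}
    (hc : Rep c T (1 : F ≃+* F)) {e : Fin n → F} {μ k : F} (he0 : e ≠ 0) (he : hermForm n F q e e = 0) (hk : k ≠ 0)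
    (hT : ∀ v, T v = k • (v + (μ * hermForm n F q v e) • e)) :
    ∃ y : SU n F q, (∀ v, act y v = v + (μ * hermForm n F q v e) • e) ∧ c = MulAut.conj (pr n F q y) := by
  obtain ⟨f, hf, hef⟩ := Cfsg.Agent.LieClassical.HermSimple.exists_partner hF he0 he
  have hfe : hermForm n F q f e = 1 := by
    rw [herm_swap hF, hef, one_pow]
  have hN : k * k ^ q = 1 := by
    have h1 := hc.herm e f
    rw [hT, hT, he, mul_zero, zero_smul, add_zero, herm_smul_left, herm_smul_right, herm_add_right hF,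
      herm_smul_right, he, mul_zero, add_zero, hef] at h1
    change _ = (1 : F) at h1
    rw [← h1]; ring
  have hμ : μ + μ ^ q = 0 := by
    have h1 := hc.herm f f
    rw [hT, hfe, herm_smul_left, herm_smul_right, herm_add_right hF, herm_add_left, herm_add_left, herm_smul_left,
      herm_smul_right, herm_smul_left, herm_smul_right, he, hef, hfe, hf] at h1
    change _ = (0 : F) at h1
    have h2 : (k * k ^ q) * (μ + μ ^ q) = 0 := by
      rw [← h1]; ring
    rwa [hN, one_mul] at h2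
  refine ⟨transv hF e he μ hμ, fun v => act_transv hF he hμ v, ?_⟩
  refine rep_eq' hc (Cfsg.Agent.H106.MOwnU.rep_conj (transv hF e he μ hμ)) hk fun v => ?_
  rw [hT, act_transv]

/-- **Part (a)**: an automorphism induced by a multiple of a transvection against any automorphism. -/
theorem apair_transv_rep (hF : Fintype.card F = q ^ 2) (hn : 3 ≤ n) (hp5 : 5 ≤ p) [IsSimpleGroup (PSU n F q)]
    (hna : ¬ IsMulCommutative (PSU n F q)) {x c : MulAut (PSU n F q)} (hxp : x ^ p = 1)
    (hx1 : x ≠ 1) {T : (Fin n → F) → (Fin n → F)} (hc : Rep c T (1 : F ≃+* F)) {e : Fin n → F} {μ k : F}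
    (hμ : μ ≠ 0) (he0 : e ≠ 0) (he : hermForm n F q e e = 0) (hk : k ≠ 0)
    (hT : ∀ v, T v = k • (v + (μ * hermForm n F q v e) • e)) :
    APair (MulAut.conj : PSU n F q →* MulAut (PSU n F q)).range x c := by
  obtain ⟨y, hy, rfl⟩ := eq_conj_transv hF hc he0 he hk hT
  exact apair_transv hF hn hp5 hna hxp hx1 hμ he0 he hy

end Cfsg.Agent.H487.S5U3
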