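import Cfsg.Agent.H106.MOwnPSU
import Cfsg.Agent.H132.S5.Main
import Cfsg.Agent.H487.CC.PsuChar
import Cfsg.Agent.S0633

/-!
# `PSU₃(q)`, `p ∣ q`, `p ≥ 5`: non-solvable pairs with an inner automorphism (helper487, for S2274)

Two nontrivial `p`-elements of `SU₃(q)` with different fixed isotropic lines generate a non-solvable group
(Hall--Higman theorem B).
-/

set_option autoImplicit false
set_option linter.unusedSectionVars false
set_option linter.unusedVariables false

namespace Cfsg.Agent.H487.S5U3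

open Cfsg Matrix
open Cfsg.Agent.LieClassical.HermBasic Cfsg.Agent.LieClassical.HermSiegel Cfsg.Agent.LieClassical.HermGen
open Cfsg.Agent.ClassicalGeometry.PSUAutBasic
open Cfsg.Agent.ClassicalGeometry.PSUAutSylow
open Cfsg.Agent.H358.U3 (smul_of_perp)
open Cfsg.Agent.H760.StrU3 (PP)
open Cfsg.Agent.H487.CCPsu3
open Cfsg.Agent.UGT.U2.FOne.PSU (Rep exists_rep)
open Cfsg.Agent.H132.S5

variable {F : Type*} [Field F] [Fintype F] {q p : ℕ} [hp : Fact p.Prime] [CharP F p]

/-- a `p`-subgroup of `SU₃(q)` fixes an isotropic vector -/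
theorem exists_fix (hF : Fintype.card F = q ^ 2) (O : Subgroup (SU 3 F q)) (hO : IsPGroup p O) :
    ∃ w : Fin 3 → F, w ≠ 0 ∧ hermForm 3 F q w w = 0 ∧ ∀ g ∈ O, act g w = w := by
  have hfin : Finite (PSU 3 F q) := Quotient.finite _
  obtain ⟨e, f, H⟩ := exists_frame (n := 3) hF (by omega)
  have he0 : e ≠ 0 := by
    rintro rfl
    have := H.ef
    rw [herm_zero_left] at this
    exact zero_ne_one this
  obtain ⟨S, hS⟩ := exists_sylow_PP (p := p) hF H
  obtain ⟨R, hR⟩ := (hO.map (pr 3 F q)).exists_le_sylow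
  obtain ⟨g, hg⟩ := MulAction.exists_smul_eq (PSU 3 F q) S R
  obtain ⟨a, rfl⟩ := pr_surjective g
  refine ⟨act a e, ?_, ?_, ?_⟩
  · intro h
    apply he0
    have := congrArg (act a⁻¹) h
    rwa [act_inv_act, act_zero] at this
  · rw [herm_act, H.ee]
  · intro o ho
    have h1 : pr 3 F q o ∈ (R : Subgroup (PSU 3 F q)) := hR ⟨o, ho, rfl⟩
    rw [← hg, Sylow.coe_subgroup_smul, Subgroup.mem_pointwise_smul_iff_inv_smul_mem, hS] at h1
    obtain ⟨u, hu, hu'⟩ := h1
    have h2 : pr 3 F q u = pr 3 F q (a⁻¹ * o * a) := by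
      rw [hu']
      simp [MulAut.smul_def]
    obtain ⟨k, hk⟩ := (isPGroup_siegG hF p H.ee) ⟨u, hu⟩
    obtain ⟨l, hl⟩ := hO ⟨o, ho⟩
    have hk' : u ^ p ^ k = 1 := congrArg Subtype.val hk
    have hl' : o ^ p ^ l = 1 := congrArg Subtype.val hl
    have h3 : (a⁻¹ * o * a) ^ p ^ l = 1 := by
      have := conj_pow (i := p ^ l) (a := a⁻¹) (b := o)
      rw [inv_inv] at this
      rw [this, hl']
      group
    have h4 : u = a⁻¹ * o * a := eq_of_pr_eq hF le_rfl hk' h3 h2
    obtain ⟨w, μ, h, hu2⟩ := hu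
    have h5 : act u e = e := by rw [hu2, act_siegel_self]
    have h6 : o = a * u * a⁻¹ := by rw [h4]; group
    rw [h6, act_mul, act_mul, act_inv_act, h5]

theorem eig_pow {y : SU 3 F q} {v : Fin 3 → F} {c : F} (h : act y v = c • v) (m : ℕ) :
    act (y ^ m) v = c ^ m • v := by
  induction m with
  | zero => rw [pow_zero, act_one, pow_zero, one_smul]
  | succ m ih => rw [pow_succ, act_mul, h, act_smul, ih, smul_smul, pow_succ, mul_comm]

/-- the eigenvalues of `p`-elements are `1` -/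
theorem eig_one {y : SU 3 F q} {k : ℕ} (hy : y ^ p ^ k = 1) {v : Fin 3 → F} (hv : v ≠ 0) {c : F}
    (h : act y v = c • v) : c = 1 := by
  have h1 := eig_pow h (p ^ k)
  rw [hy, act_one] at h1
  have h2 : (c ^ p ^ k - 1) • v = 0 := by rw [sub_smul, one_smul, ← h1, sub_self]
  have h3 : c ^ p ^ k - 1 = 0 := (smul_eq_zero.1 h2).resolve_right hv
  have h5 : (c - 1) ^ p ^ k = 0 := by rw [sub_pow_char_pow, one_pow, h3]
  exact sub_eq_zero.1 (eq_zero_of_pow_eq_zero h5)

/-- a nontrivial `p`-element fixes only one isotropic line -/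
theorem unique_fix (hF : Fintype.card F = q ^ 2) {y : SU 3 F q} {k : ℕ} (hy : y ^ p ^ k = 1) (hy1 : y ≠ 1)
    {w w' : Fin 3 → F} (hw0 : w ≠ 0) (hw0' : w' ≠ 0) (hw : hermForm 3 F q w w = 0)
    (hw' : hermForm 3 F q w' w' = 0) {c c' : F} (h : act y w = c • w) (h' : act y w' = c' • w') :
    ∃ d : F, w' = d • w := by
  by_contra hne
  apply hy1
  have hc := eig_one hy hw0 h
  have hc' := eig_one hy hw0' h'
  rw [hc, one_smul] at h
  rw [hc', one_smul] at h'
  have hb : hermForm 3 F q w' w ≠ 0 := herm_ne hF hw0 hw hw' hne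
  have ha : hermForm 3 F q w w' ≠ 0 := fun h0 => hb (herm_eq_zero_swap hF h0)
  have hli := linInd_of hw0 hne
  apply ext_act
  intro v
  rw [act_one]
  obtain ⟨α, hα⟩ : ∃ α, α = hermForm 3 F q v w' / hermForm 3 F q w w' := ⟨_, rfl⟩
  obtain ⟨β, hβ⟩ : ∃ β, β = hermForm 3 F q v w / hermForm 3 F q w' w := ⟨_, rfl⟩
  obtain ⟨t, ht⟩ : ∃ t, t = v - α • w - β • w' := ⟨_, rfl⟩
  have hv : v = t + α • w + β • w' := by rw [ht]; abel
  have htw : hermForm 3 F q t w = 0 := by
    rw [ht, herm_sub_left, herm_sub_left, herm_smul_left, herm_smul_left, hw, hβ, div_mul_cancel₀ _ hb]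
    ring
  have htw' : hermForm 3 F q t w' = 0 := by
    rw [ht, herm_sub_left, herm_sub_left, herm_smul_left, herm_smul_left, hw', hα, div_mul_cancel₀ _ ha]
    ring
  have hyt : act y t = t := by
    by_cases ht0 : t = 0
    · rw [ht0, act_zero]
    · have h1 : hermForm 3 F q (act y t) w = 0 := by
        rw [← h, herm_act, htw]
      have h2 : hermForm 3 F q (act y t) w' = 0 := by
        rw [← h', herm_act, htw']
      obtain ⟨c2, h3⟩ := line_of_perp hF hli ht0 htw htw' h1 h2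
      rw [h3, eig_one hy ht0 h3, one_smul]
  rw [hv, act_add, act_add, act_smul, act_smul, hyt, h, h']

/-- `SU` in `GL` -/
def toLE : SU 3 F q →* ((Fin 3 → F) ≃ₗ[F] (Fin 3 → F)) where
  toFun g :=
    { toFun := act g
      map_add' := act_add g
      map_smul' := fun c v => act_smul g c v
      invFun := act g⁻¹
      left_inv := fun v => act_inv_act g v
      right_inv := fun v => act_act_inv g v }
  map_one' := by
    ext1 v
    exact act_one v
  map_mul' a b := by
    ext1 v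
    exact act_mul a b v

theorem toLE_apply (g : SU 3 F q) (v : Fin 3 → F) : toLE g v = act g v := rfl

theorem toLE_injective : Function.Injective (toLE (F := F) (q := q)) := by
  intro a b h
  apply ext_act
  intro v
  rw [← toLE_apply, h, toLE_apply]

/-- a `p`-subgroup normalised by two `p`-elements with different fixed isotropic lines is trivial -/
theorem eq_bot_of_normalised (hF : Fintype.card F = q ^ 2) {y y' : SU 3 F q} (hy : y ^ p = 1)
    (hy1 : y ≠ 1) (hy' : y' ^ p = 1) (hy1' : y' ≠ 1) {w w' : Fin 3 → F} (hw0 : w ≠ 0) (hw0' : w' ≠ 0)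
    (hw : hermForm 3 F q w w = 0) (hw' : hermForm 3 F q w' w' = 0) (h : act y w = w) (h' : act y' w' = w')
    (hne : ¬ ∃ d : F, w' = d • w) (O : Subgroup (SU 3 F q)) (hO : IsPGroup p O)
    (hn : ∀ o ∈ O, y⁻¹ * o * y ∈ O) (hn' : ∀ o ∈ O, y'⁻¹ * o * y' ∈ O) : O = ⊥ := by
  by_contra hne0
  have hyp : y ^ p ^ 1 = 1 := by rw [pow_one]; exact hy
  have hyp' : y' ^ p ^ 1 = 1 := by rw [pow_one]; exact hy'
  obtain ⟨w0, hw00, hww, hfix⟩ := exists_fix hF O hO
  obtain ⟨⟨o, ho⟩, ho1⟩ := (Subgroup.ne_bot_iff_exists_ne_one).1 hne0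
  have ho2 : o ≠ 1 := fun h1 => ho1 (Subtype.ext h1)
  obtain ⟨k, hk⟩ := hO ⟨o, ho⟩
  have hk' : o ^ p ^ k = 1 := congrArg Subtype.val hk
  have hofix : act o w0 = w0 := hfix _ ho
  have key : ∀ z : SU 3 F q, (∀ o ∈ O, z⁻¹ * o * z ∈ O) → ∃ d : F, act z w0 = d • w0 := by
    intro z hz
    have h1 : act o (act z w0) = act z w0 := by
      have h3 := hfix _ (hz o ho)
      have h4 := congrArg (act z) h3
      rw [← act_mul] at h4
      rw [← act_mul]
      have h5 : z * (z⁻¹ * o * z) = o * z := by group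
      rwa [h5] at h4
    have hz0 : act z w0 ≠ 0 := by
      intro h0
      apply hw00
      have := congrArg (act z⁻¹) h0
      rwa [act_inv_act, act_zero] at this
    exact unique_fix hF hk' ho2 hw00 hz0 hww (by rw [herm_act, hww]) (c := 1) (c' := 1)
      (by rw [one_smul, hofix]) (by rw [one_smul, h1])
  obtain ⟨d1, hd1⟩ := key y hn
  obtain ⟨d2, hd2⟩ := key y' hn'
  obtain ⟨a1, ha1⟩ := unique_fix hF hyp hy1 hw00 hw0 hww hw hd1 (c' := 1) (by rw [one_smul, h])
  obtain ⟨a2, ha2⟩ := unique_fix hF hyp' hy1' hw00 hw0' hww hw' hd2 (c' := 1) (by rw [one_smul, h'])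
  apply hne
  have ha10 : a1 ≠ 0 := by
    rintro rfl
    rw [zero_smul] at ha1
    exact hw0 ha1
  exact ⟨a2 * a1⁻¹, by rw [ha1, ha2, smul_smul, mul_assoc, inv_mul_cancel₀ ha10, mul_one]⟩

/-- the `p`-core -/
theorem pCore_bot {G : Type*} [Group G] {K : Subgroup G} [Finite K]
    (h : ∀ O : Subgroup G, O ≤ K → IsPGroup p O → (∀ z ∈ K, ∀ o ∈ O, z⁻¹ * o * z ∈ O) → O = ⊥) :
    pCore p K = ⊥ := by
  have hOp : IsPGroup p (pCore p K) := Cfsg.Agent.Lib.Cores.pCore_isPGroup p
  have hOn : (pCore p K).Normal := inferInstance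
  have h1 := h ((pCore p K).map K.subtype) (Subgroup.map_subtype_le _) (hOp.map _) (by
    rintro z hz _ ⟨o, ho, rfl⟩
    refine ⟨(⟨z, hz⟩ : K)⁻¹ * o * ⟨z, hz⟩, ?_, rfl⟩
    have := hOn.conj_mem _ ho (⟨z, hz⟩⁻¹ : K)
    rwa [inv_inv] at this)
  exact (Subgroup.map_eq_bot_iff_of_injective _ K.subtype_injective).1 h1

theorem nil_of_pow {V : Type*} [AddCommGroup V] [Module F V] [FiniteDimensional F V] {f : Module.End F V}
    (hf : f ^ p = 1) : (f - 1) ^ Module.finrank F V = 0 := by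
  have : CharP (Module.End F V) p ∨ Subsingleton V := by
    rcases subsingleton_or_nontrivial V with h | h
    · exact Or.inr h
    · exact Or.inl (charP_of_injective_algebraMap (algebraMap F (Module.End F V)).injective p)
  rcases this with h | h
  · have h1 : (f - 1) ^ p = 0 := by
      rw [sub_pow_char_of_commute p (Commute.one_right f), hf, one_pow, sub_self]
    have h2 := Module.End.ker_pow_le_ker_pow_finrank (f - 1) p
    rw [h1, LinearMap.ker_zero, top_le_iff, LinearMap.ker_eq_top] at h2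
    exact h2
  · ext v
    exact Subsingleton.elim _ _

/-- **Hall--Higman** -/
theorem not_solvable_pair (hF : Fintype.card F = q ^ 2) (hp5 : 5 ≤ p) {y y' : SU 3 F q} (hy : y ^ p = 1)
    (hy1 : y ≠ 1) (hy' : y' ^ p = 1) (hy1' : y' ≠ 1) {w w' : Fin 3 → F} (hw0 : w ≠ 0) (hw0' : w' ≠ 0)
    (hw : hermForm 3 F q w w = 0) (hw' : hermForm 3 F q w' w' = 0) (h : act y w = w) (h' : act y' w' = w')
    (hne : ¬ ∃ d : F, w' = d • w) :
    ¬ Group.IsSolvable ↥(Subgroup.closure ({y, y'} : Set (SU 3 F q))) := by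
  intro hsol
  obtain ⟨K, hK⟩ : ∃ K, K = Subgroup.closure ({y, y'} : Set (SU 3 F q)) := ⟨_, rfl⟩
  rw [← hK] at hsol
  have hyK : y ∈ K := by rw [hK]; exact Subgroup.subset_closure (by simp)
  have hyK' : y' ∈ K := by rw [hK]; exact Subgroup.subset_closure (by simp)
  -- Hall--Higman
  obtain ⟨H', hH'⟩ : ∃ H', H' = K.map (toLE (F := F) (q := q)) := ⟨_, rfl⟩
  have e : ↥K ≃* ↥H' := (K.equivMapOfInjective toLE toLE_injective).trans (MulEquiv.subgroupCongr hH'.symm)
  have hfinH : Finite ↥H' := Finite.of_equiv _ e.toEquiv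
  have hsol' : Group.IsSolvable ↥H' := Group.isSolvable_of_surjective (f := e.toMonoidHom) e.surjective
  have hxH : toLE y ∈ H' := by rw [hH']; exact ⟨y, hyK, rfl⟩
  have hxH' : toLE y' ∈ H' := by rw [hH']; exact ⟨y', hyK', rfl⟩
  have hcore' : pCore p ↥H' = ⊥ := by
    refine pCore_bot fun O hOH hO hn => ?_
    have h1 : O.comap (toLE (F := F) (q := q)) = ⊥ := by
      refine eq_bot_of_normalised hF hy hy1 hy' hy1' hw0 hw0' hw hw' h h' hne _
        (hO.comap_of_injective _ toLE_injective) (fun o ho => ?_) (fun o ho => ?_)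
      · have := hn _ hxH _ ho
        rwa [← map_inv, ← map_mul, ← map_mul] at this
      · have := hn _ hxH' _ ho
        rwa [← map_inv, ← map_mul, ← map_mul] at this
    rw [eq_bot_iff]
    intro o ho
    have h2 := hOH ho
    rw [hH'] at h2
    obtain ⟨a, -, rfl⟩ := h2
    have h3 : a ∈ O.comap (toLE (F := F) (q := q)) := ho
    rw [h1, Subgroup.mem_bot] at h3
    rw [h3, map_one]
    exact one_mem _
  have hx1 : toLE y ^ p = 1 := by rw [← map_pow, hy, map_one]
  have hxo : orderOf (toLE y) = p ^ 1 := by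
    rw [pow_one]
    refine orderOf_eq_prime hx1 fun h0 => hy1 (toLE_injective ?_)
    rw [h0, map_one]
  have hnil : ((toLE y : (Fin 3 → F) ≃ₗ[F] (Fin 3 → F)) : Module.End F (Fin 3 → F)) ^ p = 1 := by
    have h1 : ∀ m : ℕ, ((toLE y : (Fin 3 → F) ≃ₗ[F] (Fin 3 → F)) : Module.End F (Fin 3 → F)) ^ m =
        ((toLE (y ^ m) : (Fin 3 → F) ≃ₗ[F] (Fin 3 → F)) : Module.End F (Fin 3 → F)) := by
      intro m
      induction m with
      | zero =>
        rw [pow_zero, pow_zero, map_one]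
        rfl
      | succ m ih =>
        rw [pow_succ, ih, pow_succ, map_mul]
        rfl
    rw [h1, hy, map_one]
    rfl
  have h3 := nil_of_pow hnil
  rw [Module.finrank_fin_fun] at h3
  rcases Cfsg.Agent.S0633.bound H' (Cfsg.Agent.Lib.PSolvable.IsPSolvable_of_solvable p) hcore' (toLE y) hxH 1
    le_rfl hxo 3 h3 with h4 | ⟨n0, r, m, hn1, hn2, -, -, -, -, h4⟩
  · rw [pow_one] at h4
    omega
  · have : n0 = 1 := by omega
    subst this
    rw [Nat.sub_self, pow_zero, one_mul, pow_one] at h4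
    omega

/-- solvability modulo the centre -/
theorem solvable_of_pr {K : Subgroup (SU 3 F q)} (h : Group.IsSolvable ↥(K.map (pr 3 F q))) :
    Group.IsSolvable ↥K := by
  let φ : ↥K →* ↥(K.map (pr 3 F q)) := (pr 3 F q).subgroupMap K
  have hker : Group.IsSolvable ↥φ.ker := by
    refine Group.isSolvable_of_comm fun a b => ?_
    have h1 : ((a : ↥K) : SU 3 F q) ∈ Subgroup.center (SU 3 F q) := by
      have h2 : φ (a : ↥K) = 1 := a.2
      exact pr_eq_one_iff.1 (congrArg Subtype.val h2)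
    have h2 := Subgroup.mem_center_iff.1 h1 ((b : ↥K) : SU 3 F q)
    exact Subtype.ext (Subtype.ext h2.symm)
  exact Group.isSolvable_of_ker_le_range φ.ker.subtype φ (by rw [Subgroup.range_subtype])

/-- **Part (a), one inner automorphism.** -/
theorem apair_inner (hF : Fintype.card F = q ^ 2) (hp5 : 5 ≤ p) [IsSimpleGroup (PSU 3 F q)]
    (hna : ¬ IsMulCommutative (PSU 3 F q)) {x : MulAut (PSU 3 F q)} (hxp : x ^ p = 1)
    (hx1 : x ≠ 1) {y : PSU 3 F q} (hy : orderOf y = p) :
    APair (MulAut.conj : PSU 3 F q →* MulAut (PSU 3 F q)).range x (MulAut.conj y) := by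
  have hpp : p.Prime := hp.out
  have hodd : Odd p := hpp.odd_of_ne_two (by omega)
  have hq3 : 3 ≤ q := by
    have h1 := prime_dvd_q p hF
    have h2 := two_le hF
    have := Nat.le_of_dvd (by omega) h1
    omega
  obtain ⟨T, σ, hT⟩ := exists_rep hF le_rfl (by omega) x
  obtain ⟨e, he, heT⟩ := Cfsg.Agent.H106.MOwnU.exists_iso_ne hF le_rfl hT hodd hxp hx1
  -- a lift of `y`
  have hyp : y ^ p ^ 1 = 1 := by rw [pow_one, ← hy, pow_orderOf_eq_one]
  obtain ⟨b, hb, l, hbl⟩ := exists_lift hF le_rfl hyp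
  have hbp : b ^ p = 1 := by
    refine eq_of_pr_eq hF le_rfl (p := p) (k := l) (l := 0) ?_ (by simp) ?_
    · rw [← pow_mul, mul_comm, pow_mul, hbl, one_pow]
    · rw [map_pow, hb, map_one, ← hy, pow_orderOf_eq_one]
  have hb1 : b ≠ 1 := by
    rintro rfl
    rw [map_one] at hb
    rw [← hb, orderOf_one] at hy
    exact hpp.one_lt.ne hy
  obtain ⟨u, hu0, hu, hub⟩ := exists_fix hF (Subgroup.zpowers b) (by
    rintro ⟨_, i, rfl⟩
    refine ⟨1, Subtype.ext ?_⟩
    change (b ^ i) ^ p ^ 1 = 1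
    rw [pow_one, ← _root_.zpow_natCast, ← _root_.zpow_mul, mul_comm, _root_.zpow_mul, _root_.zpow_natCast, hbp,
      _root_.one_zpow])
  have hbu : act b u = u := hub b (Subgroup.mem_zpowers b)
  -- move `u` to `e`
  have he0 : e ≠ 0 := by
    rintro rfl
    rw [herm_zero_right hF] at heT
    exact heT rfl
  obtain ⟨u', hu', huu'⟩ := Cfsg.Agent.LieClassical.HermSimple.exists_partner hF hu0 hu
  obtain ⟨e', he', hee'⟩ := Cfsg.Agent.LieClassical.HermSimple.exists_partner hF he0 he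
  obtain ⟨a, -, hau, -⟩ := exists_map_hyp hF le_rfl le_rfl (mem_coordSub_top u) (mem_coordSub_top u')
    (mem_coordSub_top e) (mem_coordSub_top e') hu hu' huu' he he' hee'
  obtain ⟨y1, hy1⟩ : ∃ y1, y1 = a * b * a⁻¹ := ⟨_, rfl⟩
  have hy1p : y1 ^ p = 1 := by rw [hy1, conj_pow, hbp]; group
  have hy11 : y1 ≠ 1 := by
    intro h
    apply hb1
    rw [hy1] at h
    have : b = a⁻¹ * (a * b * a⁻¹) * a := by group
    rw [this, h]
    group
  have hy1e : act y1 e = e := by
    rw [hy1, act_mul, act_mul, ← hau, act_inv_act, hbu]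
  obtain ⟨y2, hy2, hy2T⟩ := hT.lift y1
  have hy2pow : ∀ m : ℕ, ∀ v, act (y2 ^ m) (T v) = T (act (y1 ^ m) v) := by
    intro m
    induction m with
    | zero => intro v; rw [pow_zero, pow_zero, act_one, act_one]
    | succ m ih => intro v; rw [pow_succ, pow_succ, act_mul, act_mul, hy2T, ih]
  have hy2p : y2 ^ p = 1 := by
    apply ext_act
    intro v
    obtain ⟨v, rfl⟩ := hT.sur v
    rw [hy2pow, hy1p, act_one, act_one]
  have hy21 : y2 ≠ 1 := by
    rintro rfl
    apply hy11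
    apply ext_act
    intro v
    apply hT.inj hF
    rw [← hy2T, act_one, act_one]
  have hy2e : act y2 (T e) = T e := by rw [hy2T, hy1e]
  have hTe : hermForm 3 F q (T e) (T e) = 0 := by rw [hT.herm, he, map_zero]
  have hne : ¬ ∃ d : F, T e = d • e := by
    rintro ⟨d, hd⟩
    rw [hd, herm_smul_left, he, mul_zero] at heT
    exact heT rfl
  have hTe0 : T e ≠ 0 := by
    intro h
    rw [h, herm_zero_left] at heT
    exact heT rfl
  have hns := not_solvable_pair hF hp5 hy1p hy11 hy2p hy21 he0 hTe0 he hTe hy1e hy2e hne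
  refine ⟨MulAut.conj (pr 3 F q a), ⟨_, rfl⟩, fun hsol => hns (solvable_of_pr ?_)⟩
  have h1 : MulAut.conj (pr 3 F q a) * MulAut.conj y * (MulAut.conj (pr 3 F q a))⁻¹ =
      MulAut.conj (pr 3 F q y1) := by
    rw [hy1, ← hb, map_mul (pr 3 F q), map_mul (pr 3 F q), map_inv (pr 3 F q), map_mul MulAut.conj,
      map_mul MulAut.conj, map_inv MulAut.conj]
  rw [h1] at hsol
  have h2 : x * MulAut.conj (pr 3 F q y1) * x⁻¹ = MulAut.conj (pr 3 F q y2) := by
    rw [← hy2]
    ext z
    simp [MulAut.mul_apply, MulAut.conj_apply]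
  have h3 : Subgroup.closure ({MulAut.conj (pr 3 F q y1), MulAut.conj (pr 3 F q y2)} :
      Set (MulAut (PSU 3 F q))) ≤ Subgroup.closure ({x, MulAut.conj (pr 3 F q y1)} : Set _) := by
    rw [Subgroup.closure_le]
    have hx : x ∈ Subgroup.closure ({x, MulAut.conj (pr 3 F q y1)} : Set (MulAut (PSU 3 F q))) :=
      Subgroup.subset_closure (by simp)
    have hc : MulAut.conj (pr 3 F q y1) ∈
        Subgroup.closure ({x, MulAut.conj (pr 3 F q y1)} : Set (MulAut (PSU 3 F q))) :=
      Subgroup.subset_closure (by simp)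
    rintro z (rfl | hz)
    · exact hc
    · rw [Set.mem_singleton_iff] at hz
      rw [hz, ← h2]
      exact mul_mem (mul_mem hx hc) (inv_mem hx)
  have hinj := Cfsg.Agent.H533.T5.conj_injective_of_simple (S := PSU 3 F q) hna
  have h4 := isSolvable_of_le h3 hsol
  have h5 : (Subgroup.closure ({pr 3 F q y1, pr 3 F q y2} : Set (PSU 3 F q))).map MulAut.conj =
      Subgroup.closure ({MulAut.conj (pr 3 F q y1), MulAut.conj (pr 3 F q y2)} :
      Set (MulAut (PSU 3 F q))) := Cfsg.Agent.H533.T5.closure_pair_map _ _ _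
  rw [← h5] at h4
  rw [Cfsg.Agent.H533.T5.closure_pair_map]
  exact Group.isSolvable_of_isSolvable_injective
    (f := ((Subgroup.closure ({pr 3 F q y1, pr 3 F q y2} : Set (PSU 3 F q))).equivMapOfInjective _
      hinj).toMonoidHom) (MulEquiv.injective _)

end Cfsg.Agent.H487.S5U3
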