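import Cfsg.Agent.H957.T5U14
import Cfsg.Agent.H487.S5.PsuOwnA

/-!
# `PSU₃(q)`: the field automorphisms of order `p ≥ 5` are conjugate up to powers (helper487, for S2274)
-/

set_option autoImplicit false
set_option linter.unusedSectionVars false
set_option linter.unusedVariables false

namespace Cfsg.Agent.H487.S5U3

open Cfsg Matrix
open Cfsg.Agent.LieClassical.HermBasic Cfsg.Agent.LieClassical.HermSiegel Cfsg.Agent.LieClassical.HermGen
open Cfsg.Agent.ClassicalGeometry.PSUAutBasic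
open Cfsg.Agent.UGT.U2.FOne.PSU (Rep exists_rep)
open Cfsg.Agent.H957.T5V (Semi IsScal smulA smulA_apply)
open Cfsg.Agent.H957.T5U (SI scale_semi exists_onb_fix li_orth exists_iso_ext)
open Cfsg.Agent.LieClassical (GUOrder.mul_map_eq_one_iff GUOrder.frob)

section num

variable {F : Type*} [Field F] [Finite F]

/-- elements modulo cubes -/
theorem exists_cube {p : ℕ} (hp : p.Prime) (hp5 : 5 ≤ p) {θ : F ≃+* F} (hθ : θ ^ p = 1) (δ : Fˣ) :
    ∃ a b : ℤ, δ = δ ^ a * (δ ^ b) ^ 3 ∧ θ ((δ ^ a : Fˣ) : F) = ((δ ^ a : Fˣ) : F) := by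
  classical
  obtain ⟨r, hr⟩ := MonoidHom.map_cyclic (Units.map (θ : F →* F))
  have hr' : ∀ x : Fˣ, θ (x : F) = ((x ^ r : Fˣ) : F) := fun x => by
    rw [← hr x]; rfl
  have hpow : ∀ (m : ℕ) (x : Fˣ), (θ ^ m) (x : F) = ((x ^ (r ^ m) : Fˣ) : F) := by
    intro m
    induction m with
    | zero => intro x; rw [pow_zero, pow_zero, _root_.zpow_one]; rfl
    | succ m ih =>
      intro x
      rw [pow_succ]
      change (θ ^ m) (θ (x : F)) = _
      rw [hr', ih, ← _root_.zpow_mul, pow_succ, mul_comm]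
  have hone : ∀ x : Fˣ, x ^ (r ^ p) = x := by
    intro x
    apply Units.ext
    rw [← hpow, hθ]
    rfl
  obtain ⟨M, hM⟩ : ∃ M, M = ∑ i ∈ Finset.range p, r ^ i := ⟨_, rfl⟩
  have hMr : M * (r - 1) = r ^ p - 1 := by rw [hM]; exact geom_sum_mul r p
  have hfix : ∀ x : Fˣ, θ ((x ^ M : Fˣ) : F) = ((x ^ M : Fˣ) : F) := by
    intro x
    rw [hr', ← _root_.zpow_mul]
    congr 1
    have h1 : M * r = M + (r ^ p - 1) := by linarith
    rw [h1, _root_.zpow_add, _root_.zpow_sub, _root_.zpow_one, hone]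
    simp
  -- the order of `δ`
  by_cases h3 : (3 : ℤ) ∣ M
  · -- then `δ` has order prime to `3`
    have h4 : ¬ 3 ∣ orderOf δ := by
      intro h5
      have h6 : (orderOf δ : ℤ) ∣ r ^ p - 1 := by
        rw [orderOf_dvd_iff_zpow_eq_one, _root_.zpow_sub, hone, _root_.zpow_one, mul_inv_cancel]
      have h7 : (3 : ℤ) ∣ r ^ p - 1 := dvd_trans (by exact_mod_cast h5) h6
      -- `r ≡ 1`
      have hodd : Odd p := hp.odd_of_ne_two (by omega)
      have h8 : (3 : ℤ) ∣ r - 1 := by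
        obtain ⟨k, hk⟩ := hodd
        have h9 : ((r : ZMod 3)) ^ p = 1 := by
          have := (ZMod.intCast_zmod_eq_zero_iff_dvd (r ^ p - 1) 3).2 h7
          push_cast at this
          exact sub_eq_zero.1 this
        have h10 : (r : ZMod 3) = 1 := by
          have h11 : ∀ z : ZMod 3, z ^ 3 = z := by decide
          have h12 : ∀ k : ℕ, ∀ z : ZMod 3, z ^ (2 * k + 1) = z := by
            intro k z
            induction k with
            | zero => rw [mul_zero, zero_add, pow_one]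
            | succ k ih =>
              rw [show 2 * (k + 1) + 1 = (2 * k + 1) + 2 by ring, pow_add, ih, ← pow_succ', h11]
          rw [← h12 k (r : ZMod 3), ← hk, h9]
        apply (ZMod.intCast_zmod_eq_zero_iff_dvd (r - 1) 3).1
        push_cast
        rw [h10, sub_self]
      -- `M ≡ p`
      have h13 : (M : ZMod 3) = p := by
        have h14 : (r : ZMod 3) = 1 := by
          have := (ZMod.intCast_zmod_eq_zero_iff_dvd (r - 1) 3).2 h8
          push_cast at this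
          exact sub_eq_zero.1 this
        rw [hM]
        push_cast
        rw [h14]
        simp
      have h15 : (M : ZMod 3) = 0 := (ZMod.intCast_zmod_eq_zero_iff_dvd M 3).2 h3
      rw [h15] at h13
      have h16 : 3 ∣ p := (ZMod.natCast_eq_zero_iff p 3).1 h13.symm
      have h17 := (Nat.prime_dvd_prime_iff_eq Nat.prime_three hp).1 h16
      omega
    have h5 : IsCoprime ((3 : ℕ) : ℤ) (orderOf δ : ℤ) :=
      Nat.isCoprime_iff_coprime.2 ((Nat.Prime.coprime_iff_not_dvd Nat.prime_three).2 h4)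
    obtain ⟨u, v, huv⟩ := h5
    refine ⟨0, u, ?_, ?_⟩
    · rw [_root_.zpow_zero, one_mul, ← _root_.zpow_natCast, ← _root_.zpow_mul]
      have h6 : u * ((3 : ℕ) : ℤ) = 1 - v * (orderOf δ : ℤ) := by linarith
      rw [h6, _root_.zpow_sub, _root_.zpow_one, mul_comm v, _root_.zpow_mul, _root_.zpow_natCast, pow_orderOf_eq_one,
        _root_.one_zpow, inv_one, mul_one]
    · rw [_root_.zpow_zero, Units.val_one, map_one]
  · have h4 : IsCoprime M 3 := by
      rw [Int.isCoprime_iff_gcd_eq_one, Int.gcd_comm]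
      have h5 : ¬ 3 ∣ M.natAbs := by
        intro h6
        exact h3 (Int.natCast_dvd.2 h6)
      have := (Nat.Prime.coprime_iff_not_dvd Nat.prime_three).2 h5
      simpa [Int.gcd] using this
    obtain ⟨u, v, huv⟩ := h4
    refine ⟨M * u, v, ?_, ?_⟩
    · rw [← _root_.zpow_natCast, ← _root_.zpow_mul, ← _root_.zpow_add]
      have h6 : M * u + v * ((3 : ℕ) : ℤ) = 1 := by push_cast; linarith
      rw [h6, _root_.zpow_one]
    · rw [mul_comm, _root_.zpow_mul]
      exact hfix _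

end num

section lin

variable {F : Type} [Field F] [Fintype F] {q p : ℕ}

/-- the determinant of an isometry -/
theorem det_iso (hF : Fintype.card F = q ^ 2) {M : Matrix (Fin 3) (Fin 3) F}
    (h : ∀ u v, hermForm 3 F q (M *ᵥ u) (M *ᵥ v) = hermForm 3 F q u v) : M.det * M.det ^ q = 1 := by
  have h1 := (Cfsg.Agent.LieClassical.GUOrder.mul_map_eq_one_iff hF M).1 h
  have h2 := congrArg Matrix.det h1
  rw [det_mul, det_transpose, det_one] at h2
  rw [← h2]
  congr 1
  exact ((Cfsg.Agent.LieClassical.GUOrder.frob hF).map_det M)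

/-- the determinant of a diagonalisable matrix -/
theorem det_diag {M : Matrix (Fin 3) (Fin 3) F} {b : Fin 3 → (Fin 3 → F)} (hb : LinearIndependent F b)
    {x : Fin 3 → F} (h : ∀ i, M *ᵥ b i = x i • b i) : M.det = ∏ i, x i := by
  obtain ⟨P, hP⟩ : ∃ P, P = (Matrix.of b)ᵀ := ⟨_, rfl⟩
  have h1 : M * P = P * Matrix.diagonal x := by
    ext i j
    rw [Matrix.mul_diagonal]
    have h2 := congrFun (h j) i
    rw [hP]
    rw [Pi.smul_apply, smul_eq_mul, mul_comm] at h2
    rw [Matrix.transpose_apply, Matrix.of_apply, ← h2]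
    rfl
  have h2 : P.det ≠ 0 := by
    rw [hP, det_transpose]
    have h3 : LinearIndependent F (fun i => (Matrix.of b) i) := hb
    have h4 := (Matrix.linearIndependent_rows_iff_isUnit).1 h3
    exact ((Matrix.isUnit_iff_isUnit_det _).1 h4).ne_zero
  have h3 := congrArg Matrix.det h1
  rw [det_mul, det_mul, det_diagonal, mul_comm] at h3
  exact mul_left_cancel₀ h2 h3

end lin

section rep

variable {F : Type} [Field F] [Fintype F] {q p : ℕ} {α β : MulAut (PSU 3 F q)} {T X : (Fin 3 → F) → (Fin 3 → F)}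
  {σ τ : F ≃+* F}

/-- proportional semi-isometries induce the same automorphism -/
theorem rep_eq (h : Rep α X σ) (h' : Rep β T τ) {η : F} (hη : η ≠ 0) (hX : ∀ v, X v = η • T v) : α = β := by
  ext x
  obtain ⟨g, rfl⟩ := pr_surjective x
  obtain ⟨g1, h1, h2⟩ := h.lift g
  obtain ⟨g2, h3, h4⟩ := h'.lift g
  rw [h1, h3]
  congr 1
  apply ext_act
  intro v
  obtain ⟨u, rfl⟩ := h'.sur v
  have h5 := h2 u
  rw [hX, hX, act_smul] at h5
  rw [smul_right_injective _ hη h5, h4]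

/-- an isometry of determinant `1` up to a scalar -/
theorem inner_of_mat (hF : Fintype.card F = q ^ 2) (h : Rep α T (1 : F ≃+* F)) {M : Matrix (Fin 3) (Fin 3) F}
    (hM : ∀ u v, hermForm 3 F q (M *ᵥ u) (M *ᵥ v) = hermForm 3 F q u v) (hT : ∀ v, T v = M *ᵥ v) {c : F}
    (hc : c ≠ 0) (hcc : c * c ^ q = 1) (hdet : M.det = c ^ 3) : ∃ y, α = MulAut.conj y := by
  have hci : c⁻¹ * c⁻¹ ^ q = 1 := by rw [inv_pow, ← mul_inv, hcc, inv_one]
  have hd : (c⁻¹ • M).det = 1 := by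
    rw [det_smul, hdet, Fintype.card_fin, ← mul_pow, inv_mul_cancel₀ hc, one_pow]
  have hi : ∀ u v, hermForm 3 F q ((c⁻¹ • M) *ᵥ u) ((c⁻¹ • M) *ᵥ v) = hermForm 3 F q u v := by
    intro u v
    rw [smul_mulVec, smul_mulVec, herm_smul_left, herm_smul_right, hM, ← mul_assoc, hci, one_mul]
  obtain ⟨g, hg⟩ : ∃ g, g = mkSU (c⁻¹ • M) hd hi := ⟨_, rfl⟩
  refine ⟨pr 3 F q g, rep_eq h (Cfsg.Agent.H106.MOwnU.rep_conj g) hc fun v => ?_⟩
  rw [hT, hg]
  change _ = c • ((c⁻¹ • M) *ᵥ v)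
  rw [smul_mulVec, smul_smul, mul_inv_cancel₀ hc, one_smul]

/-- linear automorphisms of order `p` are inner -/
theorem inner_of_lin (hF : Fintype.card F = q ^ 2) (hp : p.Prime) (hp5 : 5 ≤ p) (h : Rep α T (1 : F ≃+* F))
    (hα : α ^ p = 1) : ∃ y, α = MulAut.conj y := by
  obtain ⟨A, hA, -⟩ := h.exists_sg hF
  obtain ⟨M, hM⟩ : ∃ M, M = Cfsg.Agent.ClassicalGeometry.PSUAutCount.gm A := ⟨_, rfl⟩
  have hMT : ∀ v, T v = M *ᵥ v := fun v => by
    rw [← hA v, hM]
    rfl
  have hiso : ∀ u v, hermForm 3 F q (M *ᵥ u) (M *ᵥ v) = hermForm 3 F q u v := fun u v => by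
    rw [← hMT, ← hMT, h.herm]
    rfl
  have hdet := det_iso hF hiso
  have hit : ∀ m : ℕ, ∀ v, T^[m] v = (M ^ m) *ᵥ v := by
    intro m
    induction m with
    | zero => intro v; rw [pow_zero, one_mulVec]; rfl
    | succ m ih =>
      intro v
      rw [Function.iterate_succ_apply', ih, hMT, mulVec_mulVec, ← pow_succ']
  have h1 := h.pow p
  rw [hα] at h1
  obtain ⟨-, l, hl, hl'⟩ := Rep.of_one hF le_rfl h1
  have hl0 : l ≠ 0 := by
    rintro rfl
    rw [zero_mul] at hl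
    exact zero_ne_one hl
  have hMp : M ^ p = l • (1 : Matrix (Fin 3) (Fin 3) F) := by
    apply Matrix.ext_of_mulVec_single
    intro i
    rw [← hit, hl', smul_mulVec, one_mulVec]
  have hdp : M.det ^ p = l ^ 3 := by
    rw [← det_pow, hMp, det_smul, det_one, mul_one, Fintype.card_fin]
  have hd0 : M.det ≠ 0 := by
    intro h0
    rw [h0, zero_mul] at hdet
    exact zero_ne_one hdet
  -- the cube root
  have hcop : IsCoprime ((p : ℕ) : ℤ) ((3 : ℕ) : ℤ) :=
    Nat.isCoprime_iff_coprime.2 ((Nat.coprime_primes hp Nat.prime_three).2 (by omega))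
  obtain ⟨a, b, hab⟩ := hcop
  obtain ⟨c, hc⟩ : ∃ c, c = l ^ a * M.det ^ b := ⟨_, rfl⟩
  have hc0 : c ≠ 0 := by
    rw [hc]
    exact mul_ne_zero (zpow_ne_zero _ hl0) (zpow_ne_zero _ hd0)
  have hcc : c * c ^ q = 1 := by
    have e1 : c * c ^ q = (l * l ^ q) ^ a * (M.det * M.det ^ q) ^ b := by
      rw [hc, mul_pow, _root_.mul_zpow, _root_.mul_zpow, ← _root_.zpow_natCast (l ^ a), ← _root_.zpow_natCast (M.det ^ b),
        ← _root_.zpow_natCast l, ← _root_.zpow_natCast M.det, ← _root_.zpow_mul, ← _root_.zpow_mul, ← _root_.zpow_mul,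
        ← _root_.zpow_mul, mul_comm (q : ℤ) a, mul_comm (q : ℤ) b]
      ring
    rw [e1, hl, hdet, _root_.one_zpow, _root_.one_zpow, mul_one]
  refine inner_of_mat hF h hiso hMT hc0 hcc ?_
  have e2 : c ^ 3 = (l ^ 3) ^ a * (M.det ^ 3) ^ b := by
    rw [hc, mul_pow, ← _root_.zpow_natCast (l ^ a), ← _root_.zpow_natCast (M.det ^ b),
      ← _root_.zpow_natCast l, ← _root_.zpow_natCast M.det, ← _root_.zpow_mul, ← _root_.zpow_mul, ← _root_.zpow_mul,
      ← _root_.zpow_mul, mul_comm ((3 : ℕ) : ℤ) a, mul_comm ((3 : ℕ) : ℤ) b]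
  rw [e2, ← hdp, ← _root_.zpow_natCast M.det p, ← _root_.zpow_natCast M.det 3, ← _root_.zpow_mul, ← _root_.zpow_mul,
    ← zpow_add₀ hd0]
  have e3 : ((p : ℕ) : ℤ) * a + ((3 : ℕ) : ℤ) * b = 1 := by linarith
  rw [e3, _root_.zpow_one]

/-- a basis of eigenvectors for a semi-isometry with nontrivial companion -/
theorem exists_basis (hF : Fintype.card F = q ^ 2) (hp : p.Prime) (hp5 : 5 ≤ p) (h : Rep α T σ) (hσ : orderOf σ = p)
    (hα : α ^ p = 1) : ∃ (b : Fin 3 → (Fin 3 → F)) (s : F), s ≠ 0 ∧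
      (∀ i j, hermForm 3 F q (b i) (b j) = if i = j then 1 else 0) ∧ ∀ i, T (b i) = s • b i := by
  have hbij : Function.Bijective T := ⟨fun u v huv => h.inj hF huv, fun v => h.sur v⟩
  obtain ⟨C, hC⟩ : ∃ C : Equiv.Perm (Fin 3 → F), ∀ v, C v = T v := ⟨Equiv.ofBijective T hbij, fun v => rfl⟩
  have hSI : SI q σ C := ⟨⟨fun u v => by rw [hC, hC, hC, h.add], fun a v => by rw [hC, hC, h.smul]⟩,
    fun u v => by rw [hC, hC, h.herm]⟩
  have hit : ∀ m : ℕ, ∀ v, (C ^ m) v = T^[m] v := by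
    intro m
    induction m with
    | zero => intro v; rfl
    | succ m ih => intro v; rw [pow_succ', Equiv.Perm.mul_apply, ih, hC, Function.iterate_succ_apply']
  have h1 := h.pow p
  rw [hα] at h1
  obtain ⟨-, l, hl, hl'⟩ := Rep.of_one hF le_rfl h1
  obtain ⟨s, hs, hsp⟩ := scale_semi hF (by norm_num) hp (by omega) hσ hSI ⟨l, fun v => by rw [hit, hl']⟩
  obtain ⟨b, hb, hfix⟩ := exists_onb_fix hF hp (by omega) hσ (hSI.smulA hs) hsp 3 le_rfl
  refine ⟨b, (s : F)⁻¹, inv_ne_zero s.ne_zero, hb, fun i => ?_⟩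
  have h2 := hfix i
  rw [smulA_apply, hC] at h2
  rw [← h2, smul_smul, h2, inv_mul_cancel₀ s.ne_zero, one_smul]

/-- **Field automorphisms of order `p` with the same companion are conjugate.** -/
theorem conj_field (hF : Fintype.card F = q ^ 2) (hp : p.Prime) (hp5 : 5 ≤ p) (hα : Rep α T σ) (hβ : Rep β X σ)
    (hσ : orderOf σ = p) (hαp : α ^ p = 1) (hβp : β ^ p = 1) :
    ∃ s ∈ (MulAut.conj : PSU 3 F q →* MulAut (PSU 3 F q)).range, s * β * s⁻¹ = α := by
  obtain ⟨b, s, hs, hb, hbT⟩ := exists_basis hF hp hp5 hα hσ hαp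
  obtain ⟨b', s', hs', hb', hbX⟩ := exists_basis hF hp hp5 hβ hσ hβp
  have hli := li_orth hF hb
  have hli' := li_orth hF hb'
  obtain ⟨M, hM, hMb⟩ := exists_iso_ext hF b' b hli' hli (fun i j => by rw [hb, hb'])
  have hdet := det_iso hF hM
  have hd0 : M.det ≠ 0 := by
    intro h0
    rw [h0, zero_mul] at hdet
    exact zero_ne_one hdet
  obtain ⟨δ, hδ⟩ : ∃ δ : Fˣ, (δ : F) = M.det⁻¹ := ⟨Units.mk0 _ (inv_ne_zero hd0), rfl⟩
  have hσp : σ ^ p = 1 := by rw [← hσ, pow_orderOf_eq_one]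
  obtain ⟨a, e, hae, hfix⟩ := exists_cube hp hp5 hσp δ
  obtain ⟨κ, hκ⟩ : ∃ κ, κ = ((δ ^ a : Fˣ) : F) := ⟨_, rfl⟩
  obtain ⟨c, hc⟩ : ∃ c, c = ((δ ^ e : Fˣ) : F) := ⟨_, rfl⟩
  rw [← hκ] at hfix
  have hκc : κ * c ^ 3 = M.det⁻¹ := by
    rw [hκ, hc, ← hδ]
    conv_rhs => rw [hae]
    push_cast
    ring
  have hδq : (δ : Fˣ) ^ (q + 1) = 1 := by
    apply Units.ext
    rw [Units.val_pow_eq_pow_val, hδ, Units.val_one, inv_pow, pow_succ', hdet, inv_one]
  have hnorm : ∀ i : ℤ, ((δ ^ i : Fˣ) : F) * ((δ ^ i : Fˣ) : F) ^ q = 1 := by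
    intro i
    rw [← pow_succ', ← Units.val_pow_eq_pow_val, ← _root_.zpow_natCast, ← _root_.zpow_mul, mul_comm, _root_.zpow_mul,
      _root_.zpow_natCast, hδq, _root_.one_zpow, Units.val_one]
  have hκ1 : κ * κ ^ q = 1 := by rw [hκ]; exact hnorm a
  have hc1 : c * c ^ q = 1 := by rw [hc]; exact hnorm e
  have hκ0 : κ ≠ 0 := by rw [hκ]; exact Units.ne_zero _
  have hc0 : c ≠ 0 := by rw [hc]; exact Units.ne_zero _
  -- the factors
  obtain ⟨k, hk⟩ : ∃ k : Fin 3 → F, k = ![1, 1, κ] := ⟨_, rfl⟩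
  have hk1 : ∀ i, k i * k i ^ q = 1 := by
    intro i
    rw [hk]
    fin_cases i
    · simp
    · simp
    · exact hκ1
  have hk0 : ∀ i, k i ≠ 0 := by
    intro i h0
    have := hk1 i
    rw [h0, zero_mul] at this
    exact zero_ne_one this
  have hkσ : ∀ i, σ (k i) = k i := by
    intro i
    rw [hk]
    fin_cases i
    · simp
    · simp
    · exact hfix
  have hck1 : ∀ i, (c * k i) * (c * k i) ^ q = 1 := by
    intro i
    rw [mul_pow]
    calc _ = (c * c ^ q) * (k i * k i ^ q) := by ring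
      _ = 1 := by rw [hc1, hk1, mul_one]
  have hck0 : ∀ i, c * k i ≠ 0 := fun i => mul_ne_zero hc0 (hk0 i)
  have hli2 : LinearIndependent F (fun i => (c * k i) • b i) := by
    rw [Fintype.linearIndependent_iff] at hli ⊢
    intro g hg i
    have h1 := hli (fun i => g i * (c * k i)) (by
      rw [← hg]
      exact Finset.sum_congr rfl fun i _ => by rw [smul_smul]) i
    exact (mul_eq_zero.1 h1).resolve_right (hck0 i)
  obtain ⟨N, hN, hNb⟩ := exists_iso_ext hF b (fun i => (c * k i) • b i) hli hli2 (fun i j => by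
    rw [herm_smul_left, herm_smul_right, hb]
    by_cases hij : i = j
    · subst hij
      rw [if_pos rfl, mul_one, hck1]
    · rw [if_neg hij, mul_zero, mul_zero])
  have hNdet : N.det = κ * c ^ 3 := by
    rw [det_diag hli hNb, Fin.prod_univ_three, hk]
    simp
    ring
  have hNM : ∀ u v, hermForm 3 F q ((N * M) *ᵥ u) ((N * M) *ᵥ v) = hermForm 3 F q u v := by
    intro u v
    rw [← mulVec_mulVec, ← mulVec_mulVec, hN, hM]
  obtain ⟨g, hg⟩ : ∃ g : SU 3 F q, ∀ v, act g v = (N * M) *ᵥ v := by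
    refine ⟨mkSU (N * M) ?_ hNM, fun v => rfl⟩
    rw [det_mul, hNdet, hκc, inv_mul_cancel₀ hd0]
  have hgb : ∀ i, act g (b' i) = (c * k i) • b i := by
    intro i
    rw [hg, ← mulVec_mulVec, hMb, hNb]
  have hgi : ∀ i, act g⁻¹ (b i) = (c * k i)⁻¹ • b' i := by
    intro i
    have h1 := congrArg (act g⁻¹) (hgb i)
    rw [act_inv_act, act_smul] at h1
    rw [h1, smul_smul, inv_mul_cancel₀ (hck0 i), one_smul]
  -- the conjugate
  refine ⟨MulAut.conj (pr 3 F q g), ⟨_, rfl⟩, ?_⟩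
  have hR := ((Cfsg.Agent.H106.MOwnU.rep_conj g).mul hβ).mul (Cfsg.Agent.H106.MOwnU.rep_conj g⁻¹)
  rw [map_inv, map_inv, one_mul, mul_one] at hR
  obtain ⟨η, hη⟩ : ∃ η, η = σ c⁻¹ * s' * c * s⁻¹ := ⟨_, rfl⟩
  have hη0 : η ≠ 0 := by
    rw [hη]
    exact mul_ne_zero (mul_ne_zero (mul_ne_zero (by rw [Ne, map_eq_zero]; exact inv_ne_zero hc0) hs') hc0)
      (inv_ne_zero hs)
  refine rep_eq hR hα hη0 fun v => ?_
  -- check on the basis
  have hbas : ∀ i, act g (X (act g⁻¹ (b i))) = η • T (b i) := by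
    intro i
    rw [hgi, hβ.smul, hbX, act_smul, act_smul, hgb, hbT, smul_smul, smul_smul, smul_smul, hη, map_inv₀, map_mul,
      hkσ, map_inv₀]
    congr 1
    have h1 := hk0 i
    have h2 : σ c ≠ 0 := by rw [Ne, map_eq_zero]; exact hc0
    field_simp
  let B := basisOfLinearIndependentOfCardEqFinrank hli (by simp)
  have hB : ∀ i, B i = b i := fun i => by
    simp [B]
  rw [← B.sum_repr v]
  have hsum1 : ∀ s : Finset (Fin 3), ∀ f : Fin 3 → (Fin 3 → F),
      act g (X (act g⁻¹ (∑ i ∈ s, f i))) = ∑ i ∈ s, act g (X (act g⁻¹ (f i))) := by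
    intro s f
    induction s using Finset.cons_induction with
    | empty =>
      rw [Finset.sum_empty, Finset.sum_empty, act_zero, hβ.zero, act_zero]
    | cons i s his ih => rw [Finset.sum_cons, Finset.sum_cons, act_add, hβ.add, act_add, ih]
  have hsum2 : ∀ s : Finset (Fin 3), ∀ f : Fin 3 → (Fin 3 → F),
      T (∑ i ∈ s, f i) = ∑ i ∈ s, T (f i) := by
    intro s f
    induction s using Finset.cons_induction with
    | empty => rw [Finset.sum_empty, Finset.sum_empty, hα.zero]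
    | cons i s his ih => rw [Finset.sum_cons, Finset.sum_cons, hα.add, ih]
  rw [hsum1, hsum2, Finset.smul_sum]
  refine Finset.sum_congr rfl fun i _ => ?_
  rw [hB, act_smul, hβ.smul, act_smul, hbas, hα.smul, smul_comm]

end rep

end Cfsg.Agent.H487.S5U3
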